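import Mathlib
import Cfsg.Agent.Bld.Alg

/-! Finite Moufang polygons: definitions (for S1144). -/

set_option autoImplicit false

namespace Cfsg.Agent.Bld

variable {Γ : Type*} [Group Γ]

/-- All root groups are `p`-groups. -/
def PG (p : ℕ) (U : ℤ → Subgroup Γ) : Prop := ∀ k, IsPGroup p (U k)

/-- The root group `U k` of a `2 r`-gon contains a central elation. -/
def Cen (r : ℕ) (U : ℤ → Subgroup Γ) (k : ℤ) : Prop :=
  ∃ w ∈ U k, w ≠ 1 ∧ ∀ l : ℤ, k - r ≤ l → l ≤ k + r → ∀ u ∈ U l, Commute w u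

end Cfsg.Agent.Bld
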