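import Mathlib
import Cfsg.Agent.FS.Defs
import Cfsg.Agent.FS.Quad2

/-! Finite Moufang quadrangles have coordinates. -/

set_option autoImplicit false

namespace Cfsg.Agent.Bld

universe u

set_option linter.unusedVariables false in
/-- Coordinates for `U` or for the reversed sequence. -/
theorem quad_qc {Γ : Type u} [Group Γ] [Finite Γ] {U : ℤ → Subgroup Γ} {p : ℕ} (hp : p.Prime)
    (h : IsPoly 4 U) (hP : PG p U) : ∃ V : ℤ → Subgroup Γ, (V = U ∨ V = fun l => U (3 - l)) ∧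
      ∃ (K : Type u) (_ : Field K) (_ : Finite K) (x0 x2 : K → Γ) (n e : Γ) (act : K → Γ → Γ)
        (π : Γ → K) (σ : K ≃+* K), QC V x0 x2 n e act π σ :=
  h.quad_qc.elim (fun c => ⟨_, Or.inl rfl, c⟩) fun c => ⟨_, Or.inr rfl, c⟩

end Cfsg.Agent.Bld
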